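import Groth.Agent.EtAcyc.K548.GenGood
import Groth.Agent.Etbc.H184.UnivSubm
import Groth.Agent.Pi1A.FEtHom
import Groth.Agent.S2916

/-!
# Full faithfulness of the restriction of finite étale covers along base changes of maps of strict localizations

* `isUnivSubmersive_spm`: the maps of strict localizations of a universally locally 0-acyclic morphism are
  universally submersive.
* `full_faithful`: `FEt.restrict g` is fully faithful for `g` universally submersive with geometrically connected
  fibres.
-/

set_option autoImplicit false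
universe u

open CategoryTheory CategoryTheory.Limits AlgebraicGeometry Opposite IsLocalRing

namespace K168.StrictFF

open Groth.Agent.Etrest.StrictLoc Groth.Agent.Sga1.UlaSL Groth.Agent.Etbc.H192.ZeroAcyc
  Groth.Agent.Etbc.H184

/-- The maps of strict localizations of a universally locally 0-acyclic morphism are universally submersive. -/
theorem isUnivSubmersive_spm {X Y : Scheme.{u}} (f : X ⟶ Y) (hf : EtAcyc.IsULocZeroAcyclic f)
    {A B : Type u} [CommRing A] [IsLocalRing A] [CommRing B] [IsLocalRing B]
    (τ : Spec (CommRingCat.of A) ⟶ Y) (σ : Spec (CommRingCat.of B) ⟶ X) (hτ : IsStrictLoc τ)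
    (hσ : IsStrictLoc σ) (β : A →+* B) [Surjective (spm β)] (hc : spm β ≫ τ = σ ≫ f) :
    EtDesc.IsUnivSubmersive (spm β) := by
  apply GenSubm.isUnivSubmersive_of_generalizing
  intro T' T j k p H
  have w1 : WeaklyEtale τ := Groth.Agent.Sga1.UlaSL.weaklyEtale_of_isStrictLoc hτ
  have w2 : WeaklyEtale σ := Groth.Agent.Sga1.UlaSL.weaklyEtale_of_isStrictLoc hσ
  let Z := pullback f τ
  let m : Spec (CommRingCat.of B) ⟶ Z := pullback.lift σ (spm β) hc.symm
  have hm1 : m ≫ pullback.fst f τ = σ := pullback.lift_fst _ _ _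
  have hm2 : m ≫ pullback.snd f τ = spm β := pullback.lift_snd _ _ _
  have w3 : WeaklyEtale (m ≫ pullback.fst f τ) := by rw [hm1]; exact w2
  have w4 : WeaklyEtale m := WeaklyEtale.of_comp m (pullback.fst f τ)
  let Z' := pullback (pullback.snd f τ) j
  let m' : T' ⟶ Z' := pullback.lift (k ≫ m) p (by rw [Category.assoc, hm2, H.w])
  have hm1' : m' ≫ pullback.fst _ j = k ≫ m := pullback.lift_fst _ _ _
  have hm2' : m' ≫ pullback.snd _ j = p := pullback.lift_snd _ _ _
  have H1 : IsPullback (pullback.fst (pullback.snd f τ) j) (pullback.snd _ j)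
    (pullback.snd f τ) j := IsPullback.of_hasPullback _ _
  have H2 : IsPullback k m' m (pullback.fst (pullback.snd f τ) j) := by
    refine IsPullback.of_bot ?_ hm1'.symm H1
    rw [hm2', hm2]
    exact H
  have w5 : WeaklyEtale m' := MorphismProperty.of_isPullback H2 w4
  have H3 : IsPullback (pullback.fst (pullback.snd f τ) j ≫
      pullback.fst f τ) (pullback.snd _ j) f (j ≫ τ) :=
    H1.paste_horiz (IsPullback.of_hasPullback f τ)
  have g1 : GeneralizingMap (pullback.snd (pullback.snd f τ) j) :=
    UnivSubm.generalizingMap_of_isLocZeroAcyclic _ (hf _ _ _ H3)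
  have g2 : GeneralizingMap m' := Flat.generalizingMap _
  have g3 := g2.comp g1
  rw [← hm2', Scheme.Hom.comp_base, TopCat.coe_comp]
  exact g3

theorem univSubmersive_of {X Y : Scheme.{u}} {f : X ⟶ Y} (h : EtDesc.IsUnivSubmersive f) :
    SGA1.UnivSubmersive f := by
  intro X' Y' i₁ i₂ f' hp
  have h1 := (h Y' i₂).2
  have e : f' = hp.flip.isoPullback.hom ≫ pullback.snd f i₂ := (hp.flip.isoPullback_hom_snd).symm
  have h2 : Topology.IsQuotientMap (hp.flip.isoPullback.hom : X' → ↥(pullback f i₂)) :=
    (Scheme.homeoOfIso hp.flip.isoPullback).isQuotientMap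
  show Topology.IsQuotientMap f'
  rw [e, Scheme.Hom.comp_base, TopCat.coe_comp]
  exact h1.comp h2

open Groth.Agent.Pi1A.FEtHom in
/-- Restriction of finite étale covers along universally submersive morphisms with geometrically connected
fibres is fully faithful. -/
theorem full_faithful {S' S : Scheme.{u}} (g : S' ⟶ S) (hg : SGA1.UnivSubmersive g)
    (hconn : ∀ (K : Type u) [Field K] [IsAlgClosed K] (ξ : Spec (CommRingCat.of K) ⟶ S),
      ConnectedSpace ↑(pullback g ξ)) :
    (FEt.restrict g).Full ∧ (FEt.restrict g).Faithful := by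
  have hb := (Groth.Agent.S2916.result g hg hconn).2
  have het : ∀ T : FEt.Cat S, Etale (Over.mk T.hom).hom := fun T => T.prop.2
  constructor
  · refine ⟨fun {T X} φ => ?_⟩
    have i1 := het T
    have i2 := het X
    obtain ⟨ψ, hψ⟩ := (hb (Over.mk T.hom) (Over.mk X.hom)).2 (Over.homMk φ.left (left_comp_hom φ))
    refine ⟨homMk ψ.left (Over.w ψ), hom_ext ?_⟩
    exact congrArg CommaMorphism.left hψ
  · refine ⟨fun {T X} a b hab => ?_⟩
    have i1 := het T
    have i2 := het X
    apply hom_ext
    have h1 : (Over.pullback g).map (Over.homMk a.left (left_comp_hom a) : Over.mk T.hom ⟶ Over.mk X.hom) =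
        (Over.pullback g).map (Over.homMk b.left (left_comp_hom b) : Over.mk T.hom ⟶ Over.mk X.hom) := by
      apply Over.OverMorphism.ext
      exact congrArg (fun z => z.left) hab
    exact congrArg CommaMorphism.left ((hb (Over.mk T.hom) (Over.mk X.hom)).1 h1)

/-- Compatible maps of strict henselizations are local. -/
theorem isLocalHom_of_comp {A₀ B₀ A B : Type u} [CommRing A₀] [IsLocalRing A₀] [CommRing B₀] [IsLocalRing B₀]
    [CommRing A] [IsLocalRing A] [CommRing B] [IsLocalRing B] [Algebra A₀ A] [IsLocalHom (algebraMap A₀ A)]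
    [Hensel.IsStrictHenselization A₀ A] [Algebra B₀ B] [IsLocalHom (algebraMap B₀ B)] (φ : A₀ →+* B₀)
    [IsLocalHom φ] (β : A →+* B) (h : β.comp (algebraMap A₀ A) = (algebraMap B₀ B).comp φ) : IsLocalHom β := by
  refine ((IsLocalRing.local_hom_TFAE β).out 2 0).1 ?_
  rw [← Groth.Agent.Hensel.Exist.map_maximalIdeal_of_isStrictHenselization A₀ A, Ideal.map_map, h,
    Ideal.map_le_iff_le_comap]
  intro x hx
  rw [Ideal.mem_comap, RingHom.comp_apply]
  have h1 : φ x ∈ maximalIdeal B₀ := (IsLocalRing.mem_maximalIdeal _).2 fun h2 =>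
    (IsLocalRing.mem_maximalIdeal x).1 hx (isUnit_of_map_unit φ x h2)
  exact (IsLocalRing.mem_maximalIdeal _).2 fun h2 =>
    (IsLocalRing.mem_maximalIdeal _).1 h1 (isUnit_of_map_unit (algebraMap B₀ B) _ h2)

/-- **Main theorem**: restriction of principal covers along base changes of maps of strict localizations of a good
morphism reflects equivariant isomorphisms. -/
theorem main {Y Z Z' : Scheme.{u}} {p : Z' ⟶ Z} (hp : K548.Good.IsGood p) (z' : Z')
    (R : Type u) [CommRing R] [IsLocalRing R] [Algebra (Z.presheaf.stalk (p.base z')) R]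
    [IsLocalHom (algebraMap (Z.presheaf.stalk (p.base z')) R)]
    [Hensel.IsStrictHenselization (Z.presheaf.stalk (p.base z')) R]
    (R' : Type u) [CommRing R'] [IsLocalRing R'] [Algebra (Z'.presheaf.stalk z') R']
    [IsLocalHom (algebraMap (Z'.presheaf.stalk z') R')] [Hensel.IsStrictHenselization (Z'.presheaf.stalk z') R']
    [Algebra R R']
    (hcomp : (algebraMap R R').comp (algebraMap (Z.presheaf.stalk (p.base z')) R) =
      (algebraMap (Z'.presheaf.stalk z') R').comp (p.stalkMap z').hom) {G : Type} [Group G] (g : Y ⟶ Z)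
    (P Q : FEt.Cat (pullback g (Hens2.specOf Z (p.base z') R))) (ρ : G →* Aut P) (τ : G →* Aut Q)
    (he : ∃ e' : (FEt.restrict (pullback.fst (pullback.snd g (Hens2.specOf Z (p.base z') R))
          (Spec.map (CommRingCat.ofHom (algebraMap R R'))))).obj P ≅
        (FEt.restrict (pullback.fst (pullback.snd g (Hens2.specOf Z (p.base z') R))
          (Spec.map (CommRingCat.ofHom (algebraMap R R'))))).obj Q,
      ∀ x : G, (FEt.restrict (pullback.fst (pullback.snd g (Hens2.specOf Z (p.base z') R))
          (Spec.map (CommRingCat.ofHom (algebraMap R R'))))).map (ρ x).hom ≫ e'.hom =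
        e'.hom ≫ (FEt.restrict (pullback.fst (pullback.snd g (Hens2.specOf Z (p.base z') R))
          (Spec.map (CommRingCat.ofHom (algebraMap R R'))))).map (τ x).hom) :
    ∃ e : P ≅ Q, ∀ x : G, (ρ x).hom ≫ e.hom = e.hom ≫ (τ x).hom := by
  have hl : IsLocalHom (algebraMap R R') :=
    isLocalHom_of_comp (A₀ := Z.presheaf.stalk (p.base z')) (B₀ := Z'.presheaf.stalk z')
      (p.stalkMap z').hom (algebraMap R R') hcomp
  have hc : spm (algebraMap R R') ≫ Hens2.specOf Z (p z') R = Hens2.specOf Z' z' R' ≫ p :=
    (Groth.Agent.Etrest.VCBaseChange.specOf_comm p z' R R' (algebraMap R R')).1 hcomp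
  have hτ := isStrictLoc_specOf Z (p z') R
  have hσ := isStrictLoc_specOf Z' z' R'
  obtain ⟨-, h2⟩ := hp p (𝟙 _) (𝟙 _) IsPullback.of_id_fst R R' _ _ hτ hσ (algebraMap R R') hl hc
  have hsurj : Surjective (spm (algebraMap R R')) := by
    refine ⟨fun y => ?_⟩
    obtain ⟨Ω, _, _, ξ, rfl⟩ := Groth.Agent.Sga4A.EtStalk.exists_geomPoint _ y
    have := h2 Ω ξ
    obtain ⟨w⟩ := this.toNonempty
    refine ⟨pullback.snd ξ (spm (algebraMap R R')) w, ?_⟩
    rw [← Scheme.Hom.comp_apply, ← pullback.condition, Scheme.Hom.comp_apply]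
    exact congrArg ξ (Subsingleton.elim _ _)
  have hus := univSubmersive_of (isUnivSubmersive_spm p hp.isULocZeroAcyclic _ _ hτ hσ (algebraMap R R') hc)
  set σ := Hens2.specOf Z (p.base z') R
  set m := Spec.map (CommRingCat.ofHom (algebraMap R R'))
  have hsq : IsPullback (pullback.fst (pullback.snd g σ) m) (pullback.snd (pullback.snd g σ) m)
    (pullback.snd g σ) m := IsPullback.of_hasPullback _ _
  obtain ⟨hfull, hfaith⟩ := full_faithful (pullback.fst (pullback.snd g σ) m)
    (MorphismProperty.of_isPullback (P := SGA1.UnivSubmersive) hsq.flip hus) (by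
      intro K _ _ ξ
      have h3 := h2 K (ξ ≫ pullback.snd g σ)
      have hsq2 : IsPullback (pullback.fst (pullback.fst (pullback.snd g σ) m) ξ ≫
          pullback.snd (pullback.snd g σ) m) (pullback.snd _ ξ) m (ξ ≫ pullback.snd g σ) :=
        (IsPullback.of_hasPullback (pullback.fst (pullback.snd g σ) m) ξ).paste_horiz hsq.flip
      let e := hsq2.flip.isoPullback
      exact (Scheme.homeoOfIso e).symm.surjective.connectedSpace
        (Scheme.homeoOfIso e).symm.continuous)
  obtain ⟨e', he'⟩ := he
  refine ⟨(FEt.restrict (pullback.fst (pullback.snd g σ) m)).preimageIso e', fun x => ?_⟩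
  apply (FEt.restrict (pullback.fst (pullback.snd g σ) m)).map_injective
  rw [Functor.map_comp, Functor.map_comp, Functor.preimageIso_hom, Functor.map_preimage]
  exact he' x

end K168.StrictFF
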